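import Groth.Agent.GenFree.Open
import Mathlib.RingTheory.Spectrum.Prime.Chevalley
import Mathlib.RingTheory.Spectrum.Prime.Jacobson

/-! Images of constructible sets under maps of finite type. -/

set_option autoImplicit false
set_option linter.style.haveILetI false

universe u

open PrimeSpectrum Topology

namespace Groth.Agent.JacImgLib

variable {R S : Type u} [CommRing R] [CommRing S] [Algebra R S] [Algebra.FiniteType R S]

theorem isConstructible_preimage {A B : Type u} [CommRing A] [CommRing B] (f : A →+* B)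
    {s : Set (PrimeSpectrum A)} (hs : IsConstructible s) : IsConstructible (comap f ⁻¹' s) := by
  obtain ⟨C, rfl⟩ := exists_constructibleSetData_iff.mpr hs
  rw [← ConstructibleSetData.toSet_map]
  exact ConstructibleSetData.isConstructible_toSet _

/-- The generic point is in the image as soon as the image is dense, and then a basic open is. -/
theorem bot_mem_imp [IsDomain R] (E : Set (PrimeSpectrum S)) (hE : IsConstructible E) :
    ((⟨⊥, Ideal.isPrime_bot⟩ : PrimeSpectrum R) ∈ comap (algebraMap R S) '' E →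
      ∃ g : R, g ≠ 0 ∧ (basicOpen g : Set (PrimeSpectrum R)) ⊆ comap (algebraMap R S) '' E) ∧
    (Dense (comap (algebraMap R S) '' E) →
      (⟨⊥, Ideal.isPrime_bot⟩ : PrimeSpectrum R) ∈ comap (algebraMap R S) '' E) := by
  classical
  obtain ⟨f, -, hf0, -, hfp⟩ := GenFree.exists_algebra (R := R) (S := S) one_ne_zero
  let A := Localization.Away f
  let B := Localization.Away (algebraMap R S f)
  let ψ := Localization.awayMap (algebraMap R S) f
  have hψ : ψ.FinitePresentation := GenFree.awayMap_finitePresentation hfp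
  have hcomm : ψ.comp (algebraMap R A) = (algebraMap S B).comp (algebraMap R S) :=
    IsLocalization.map_comp _
  obtain ⟨C, hC⟩ := exists_constructibleSetData_iff.mpr
    (isConstructible_comap_image hψ (isConstructible_preimage (algebraMap S B) hE))
  have key : ∀ x : PrimeSpectrum A, x ∈ C.toSet ↔ comap (algebraMap R A) x ∈ comap (algebraMap R S) '' E := by
    intro x
    rw [hC]
    constructor
    · rintro ⟨b, hb, rfl⟩
      exact ⟨_, hb, by rw [← comap_comp_apply, ← comap_comp_apply, hcomm]⟩
    · rintro ⟨s, hs, hsx⟩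
      have hfs : algebraMap R S f ∉ s.asIdeal := fun h => by
        have h1 : f ∈ (comap (algebraMap R S) s).asIdeal := h
        rw [hsx] at h1
        exact x.isPrime.ne_top (Ideal.eq_top_of_isUnit_mem _ h1 (IsLocalization.Away.algebraMap_isUnit f))
      obtain ⟨b, rfl⟩ : s ∈ Set.range (comap (algebraMap S B)) := by
        rw [localization_away_comap_range B (algebraMap R S f)]
        exact hfs
      refine ⟨b, hs, localization_comap_injective A (Submonoid.powers f) ?_⟩
      rw [← comap_comp_apply, hcomm, comap_comp_apply, hsx]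
  have hle : Submonoid.powers f ≤ nonZeroDivisors R :=
    powers_le_nonZeroDivisors_of_noZeroDivisors hf0
  haveI : IsDomain A := IsLocalization.isDomain_of_le_nonZeroDivisors A hle
  let bA : PrimeSpectrum A := ⟨⊥, Ideal.isPrime_bot⟩
  have hbot : comap (algebraMap R A) bA = ⟨⊥, Ideal.isPrime_bot⟩ := PrimeSpectrum.ext
    (Ideal.comap_bot_of_injective _ (IsLocalization.injective A hle))
  refine ⟨fun h => ?_, fun h => ?_⟩
  · obtain ⟨D, hD, hDm⟩ := Set.mem_iUnion₂.1 ((key bA).2 (hbot ▸ h))
    have hg : ∀ a ∈ Set.range D.g, a = 0 := fun a ha => hDm.1 ha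
    have hDf : D.f ≠ 0 := fun e => hDm.2 (fun a ha => by rw [Set.mem_singleton_iff.1 ha, e]; exact bA.asIdeal.zero_mem)
    obtain ⟨⟨a, s⟩, has⟩ := IsLocalization.surj (Submonoid.powers f) D.f
    refine ⟨f * a, mul_ne_zero hf0 fun e => hDf ?_, fun x hx => ?_⟩
    · rw [e, map_zero] at has
      exact ((IsLocalization.map_units A s).mul_left_eq_zero).1 has
    · have hfx : f ∉ x.asIdeal := fun h' => hx (x.asIdeal.mul_mem_right _ h')
      obtain ⟨y, rfl⟩ : x ∈ Set.range (comap (algebraMap R A)) := by
        rw [localization_away_comap_range A f]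
        exact hfx
      refine (key y).1 (Set.mem_iUnion₂.2 ⟨D, hD, fun b hb => by rw [hg b hb]; exact y.asIdeal.zero_mem,
        fun h' => hx (Ideal.mul_mem_left _ _ (show algebraMap R A a ∈ y.asIdeal from ?_))⟩)
      rw [← has]
      exact y.asIdeal.mul_mem_right _ (h' rfl)
  · have hd : Dense (C.toSet) := by
      have he : Topology.IsOpenEmbedding (comap (algebraMap R A)) := localization_away_isOpenEmbedding A f
      rw [show C.toSet = comap (algebraMap R A) ⁻¹' (comap (algebraMap R S) '' E) from Set.ext key]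
      exact h.preimage he.isOpenMap
    by_contra hn
    have hb : bA ∉ C.toSet := fun h' => hn (hbot ▸ (key bA).1 h')
    have hex : ∀ D ∈ C, ∃ c : A, c ≠ 0 ∧ D.toSet ⊆ zeroLocus {c} := by
      intro D hD
      by_contra hno
      simp only [not_exists, not_and] at hno
      by_cases hDf : D.f = 0
      · exact hno 1 one_ne_zero fun z hz => (hz.2 (by rw [hDf]; exact Set.singleton_subset_iff.2 z.asIdeal.zero_mem)).elim
      · obtain ⟨c, hc, hc0⟩ : ∃ c ∈ Set.range D.g, c ≠ 0 := by
          by_contra hall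
          push Not at hall
          exact hb (Set.mem_iUnion₂.2 ⟨D, hD, fun b hb => hall b hb, fun h' => hDf (h' rfl)⟩)
        exact hno c hc0 fun z hz => Set.singleton_subset_iff.2 (hz.1 hc)
    choose! c hc0 hc using hex
    have hsub : C.toSet ⊆ zeroLocus {∏ D ∈ C, c D} := fun z hz => by
      obtain ⟨D, hD, hzD⟩ := Set.mem_iUnion₂.1 hz
      exact Set.singleton_subset_iff.2 (Ideal.mem_of_dvd _ (Finset.dvd_prod_of_mem c hD)
        (Set.singleton_subset_iff.1 (hc D hD hzD)))
    have h1 : bA ∈ zeroLocus {∏ D ∈ C, c D} :=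
      (isClosed_zeroLocus _).closure_subset_iff.2 hsub (hd bA)
    exact Finset.prod_ne_zero_iff.2 hc0 (Submodule.mem_bot A |>.1 (h1 rfl))

/-- Reduction modulo the prime at hand. -/
theorem reduce (E : Set (PrimeSpectrum S)) (hE : IsConstructible E) (ξ : PrimeSpectrum R) :
    (ξ ∈ comap (algebraMap R S) '' E → ∃ U : Set (PrimeSpectrum R), IsOpen U ∧ ξ ∈ U ∧
      U ∩ closure {ξ} ⊆ comap (algebraMap R S) '' E) ∧
    (closure ({ξ} : Set (PrimeSpectrum R)) ⊆ closure (closure {ξ} ∩ comap (algebraMap R S) '' E) →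
      ξ ∈ comap (algebraMap R S) '' E) := by
  let J : Ideal S := ξ.asIdeal.map (algebraMap R S)
  let R' := R ⧸ ξ.asIdeal
  let S' := S ⧸ J
  letI : Algebra R' S' := (Ideal.quotientMap J (algebraMap R S) Ideal.le_comap_map).toAlgebra
  haveI : IsScalarTower R R' S' := IsScalarTower.of_algebraMap_eq fun r => rfl
  haveI : Algebra.FiniteType R' S' := Algebra.FiniteType.of_restrictScalars_finiteType R R' S'
  let pR := comap (Ideal.Quotient.mk ξ.asIdeal)
  let pS := comap (Ideal.Quotient.mk J)
  have hcomm : ∀ z : PrimeSpectrum S', pR (comap (algebraMap R' S') z) = comap (algebraMap R S) (pS z) :=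
    fun z => PrimeSpectrum.ext rfl
  have hce : IsClosedEmbedding pR := isClosedEmbedding_comap_of_surjective _ _ Ideal.Quotient.mk_surjective
  have hrange : Set.range pR = closure {ξ} := by
    rw [range_comap_of_surjective _ _ Ideal.Quotient.mk_surjective, Ideal.mk_ker, PrimeSpectrum.closure_singleton]
  have hbotξ : pR ⟨⊥, Ideal.isPrime_bot⟩ = ξ := PrimeSpectrum.ext (Ideal.mk_ker (I := ξ.asIdeal))
  have hpre : pR ⁻¹' (comap (algebraMap R S) '' E) = comap (algebraMap R' S') '' (pS ⁻¹' E) := by
    ext z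
    constructor
    · rintro ⟨s, hs, hsz⟩
      have hJs : J ≤ s.asIdeal := Ideal.map_le_iff_le_comap.2 fun r hr => by
        have h1 : r ∈ (pR z).asIdeal := by
          show Ideal.Quotient.mk _ r ∈ z.asIdeal
          rw [Ideal.Quotient.eq_zero_iff_mem.2 hr]
          exact z.asIdeal.zero_mem
        rw [← hsz] at h1
        exact h1
      obtain ⟨s', rfl⟩ : s ∈ Set.range pS := by
        rw [range_comap_of_surjective _ _ Ideal.Quotient.mk_surjective, Ideal.mk_ker]
        exact hJs
      exact ⟨s', hs, hce.injective ((hcomm s').trans hsz)⟩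
    · rintro ⟨s', hs', rfl⟩
      exact ⟨pS s', hs', (hcomm s').symm⟩
  obtain ⟨h₁, h₂⟩ := bot_mem_imp (R := R') (pS ⁻¹' E) (isConstructible_preimage _ hE)
  refine ⟨fun h => ?_, fun h => ?_⟩
  · have hm : (⟨⊥, Ideal.isPrime_bot⟩ : PrimeSpectrum R') ∈ pR ⁻¹' (comap (algebraMap R S) '' E) := by
      rw [Set.mem_preimage, hbotξ]
      exact h
    rw [hpre] at hm
    obtain ⟨g, hg, hgs⟩ := h₁ hm
    obtain ⟨g, rfl⟩ := Ideal.Quotient.mk_surjective g
    refine ⟨basicOpen g, (basicOpen g).isOpen, fun hm => hg (Ideal.Quotient.eq_zero_iff_mem.2 hm), fun z hz => ?_⟩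
    obtain ⟨z', rfl⟩ := hrange.ge hz.2
    exact (hpre.ge (hgs hz.1) :)
  · suffices hm : (⟨⊥, Ideal.isPrime_bot⟩ : PrimeSpectrum R') ∈ pR ⁻¹' (comap (algebraMap R S) '' E) by
      rwa [Set.mem_preimage, hbotξ] at hm
    rw [hpre]
    refine h₂ ?_
    rw [← hpre, dense_iff_closure_eq, Set.eq_univ_iff_forall]
    intro z
    rw [hce.isInducing.closure_eq_preimage_closure_image, Set.image_preimage_eq_range_inter, hrange]
    exact h (hrange.le ⟨z, rfl⟩)

variable [IsJacobsonRing R]

/-- The closed points of the image. -/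
theorem closed_of_closedIn (E : Set (PrimeSpectrum S)) (hE : IsConstructible E) (x : PrimeSpectrum R)
    (hx : x ∈ comap (algebraMap R S) '' E) (h : closure {x} ∩ comap (algebraMap R S) '' E = {x}) :
    IsClosed ({x} : Set (PrimeSpectrum R)) := by
  obtain ⟨U, hU, hxU, hsub⟩ := (reduce E hE x).1 hx
  refine isClosed_singleton_of_isLocallyClosed_singleton ⟨U, closure {x}, hU, isClosed_closure, ?_⟩
  refine subset_antisymm (Set.singleton_subset_iff.2 ⟨hxU, subset_closure rfl⟩) ?_
  exact fun z hz => h.le ⟨hz.2, hsub hz⟩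


/-- Closed points map to closed points. -/
theorem isClosed_comap (y : PrimeSpectrum S) (hy : IsClosed ({y} : Set (PrimeSpectrum S))) :
    IsClosed ({comap (algebraMap R S) y} : Set (PrimeSpectrum R)) := by
  rw [isClosed_singleton_iff_isMaximal] at hy ⊢
  let K := S ⧸ y.asIdeal
  letI : Field K := Ideal.Quotient.field y.asIdeal
  haveI : Algebra.FiniteType R K :=
    Algebra.FiniteType.trans (S := S) inferInstance inferInstance
  haveI : Module.Finite R K := finite_of_finite_type_of_isJacobsonRing R K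
  have h := Ideal.isMaximal_comap_of_isIntegral_of_isMaximal (R := R) (⊥ : Ideal K)
  have e : (⊥ : Ideal K).comap (algebraMap R K) = (comap (algebraMap R S) y).asIdeal := by
    rw [IsScalarTower.algebraMap_eq R S K, ← Ideal.comap_comap, Ideal.Quotient.algebraMap_eq]
    exact congrArg _ Ideal.mk_ker
  rwa [← e]

/-- A closed point of the image comes from a closed point. -/
theorem exists_closed_preimage [IsJacobsonRing S] (E : Set (PrimeSpectrum S)) (hE : IsConstructible E) (x : PrimeSpectrum R)
    (hx : x ∈ comap (algebraMap R S) '' E) (hc : IsClosed ({x} : Set (PrimeSpectrum R))) :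
    ∃ y ∈ E, IsClosed ({y} : Set (PrimeSpectrum S)) ∧ comap (algebraMap R S) y = x := by
  obtain ⟨s, hs, rfl⟩ := hx
  obtain ⟨C, rfl⟩ := exists_constructibleSetData_iff.mpr hE
  obtain ⟨D, hD, hsD⟩ := Set.mem_iUnion₂.1 hs
  obtain ⟨y, ⟨hy, hy'⟩, hyc⟩ := nonempty_inter_closedPoints
    (Z := D.toSet ∩ comap (algebraMap R S) ⁻¹' {comap (algebraMap R S) s}) ⟨s, hsD, rfl⟩
    ((((isClosed_zeroLocus _).isLocallyClosed).inter (isClosed_zeroLocus _).isOpen_compl.isLocallyClosed).inter
      (hc.preimage (continuous_comap _)).isLocallyClosed)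
  exact ⟨y, Set.mem_iUnion₂.2 ⟨D, hD, hy⟩, hyc, hy'⟩

/-- Closed points of the image. -/
theorem image_closedPoints [IsJacobsonRing S] (E : Set (PrimeSpectrum S)) (hE : IsConstructible E) :
    comap (algebraMap R S) '' {y | y ∈ E ∧ closure {y} ∩ E = {y}} =
      {x | IsClosed ({x} : Set (PrimeSpectrum R))} ∩ comap (algebraMap R S) '' E := by
  ext x
  constructor
  · rintro ⟨y, ⟨hy, hy'⟩, rfl⟩
    refine ⟨isClosed_comap y (closed_of_closedIn (R := S) (S := S) E hE y ?_ ?_), y, hy, rfl⟩
    · exact ⟨y, hy, PrimeSpectrum.ext rfl⟩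
    · rw [show comap (algebraMap S S) '' E = E from (congrArg (· '' E) (funext fun z => PrimeSpectrum.ext rfl :
        comap (algebraMap S S) = id)).trans (Set.image_id _)]
      exact hy'
  · rintro ⟨hxc, hx⟩
    obtain ⟨y, hy, hyc, rfl⟩ := exists_closed_preimage E hE x hx hxc
    exact ⟨y, ⟨hy, by rw [hyc.closure_eq, Set.inter_eq_left.2 (Set.singleton_subset_iff.2 hy)]⟩, rfl⟩

end Groth.Agent.JacImgLib
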